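import Mathlib

/-!
`Ω_{K'/k'}` is one-dimensional when `Ω_{K/k}` is and `K'/K` is finite separable.
-/

set_option autoImplicit false

namespace Groth.Agent.H27.RH

open TensorProduct

variable {k k' K K' : Type*} [Field k] [Field k'] [Field K] [Field K']
  [Algebra k k'] [Algebra k K] [Algebra K K'] [Algebra k' K'] [Algebra k K']
  [IsScalarTower k k' K'] [IsScalarTower k K K'] [Algebra.IsSeparable K K']

theorem finrank_kaehler_ext (hfr : Module.finrank K (Ω[K⁄k]) = 1) {x : K}
    (hdx : KaehlerDifferential.D k K x ≠ 0)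
    (hdx' : KaehlerDifferential.D k' K' (algebraMap K K' x) ≠ 0) :
    Module.finrank K' (Ω[K'⁄k']) = 1 := by
  rw [finrank_eq_one_iff_of_nonzero' _ hdx']
  intro ω
  obtain ⟨η, rfl⟩ := KaehlerDifferential.map_surjective k k' K' ω
  haveI : Algebra.FormallyUnramified K K' := Algebra.FormallyUnramified.of_isSeparable K K'
  have h0 : KaehlerDifferential.map k K K' K' η = 0 := Subsingleton.elim _ _
  obtain ⟨ζ, rfl⟩ := (KaehlerDifferential.exact_mapBaseChange_map k K K' η).1 h0
  have hζ : ∃ c : K', ζ = c ⊗ₜ[K] KaehlerDifferential.D k K x := by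
    clear h0
    induction ζ using TensorProduct.induction_on with
    | zero => exact ⟨0, by simp⟩
    | tmul a m =>
      obtain ⟨b, hb⟩ := (finrank_eq_one_iff_of_nonzero' _ hdx).1 hfr m
      refine ⟨b • a, ?_⟩
      rw [← hb, TensorProduct.tmul_smul, TensorProduct.smul_tmul']
    | add y z hy hz =>
      obtain ⟨c1, rfl⟩ := hy
      obtain ⟨c2, rfl⟩ := hz
      exact ⟨c1 + c2, by rw [TensorProduct.add_tmul]⟩
  obtain ⟨c, rfl⟩ := hζ
  refine ⟨c, ?_⟩
  rw [KaehlerDifferential.mapBaseChange_tmul, map_smul, KaehlerDifferential.map_D,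
    KaehlerDifferential.map_D]
  rfl

end Groth.Agent.H27.RH
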