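import Groth.Agent.H27.RH.KaehlerExt
import Groth.Agent.H27.Tate.GenCanFr
import Groth.Agent.H27.Tate.ExpFD
import Groth.Agent.H27.DiffExp
import Groth.Agent.H55.FFOver2
import Groth.Agent.H55.FFRR
import Groth.Agent.H55.FFGeom

/-!
The Riemann–Hurwitz formula.
-/

set_option autoImplicit false

namespace Groth.Agent.H27.RH

open FunFld WithZero Groth.Agent.H55

universe u v w

variable {k k' : Type u} {K K' : Type v} [Field k] [Field k'] [Field K] [Field K']
  [Algebra k k'] [Algebra k K] [Algebra K K'] [Algebra k' K'] [Algebra k K']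
  [IsScalarTower k k' K'] [IsScalarTower k K K']

variable (k) in
/-- A place of `K'/k'` viewed as a place of `K'/k`. -/
def toK (Q : Place k' K') : Place k K' :=
  ⟨Q.1, fun c => by rw [IsScalarTower.algebraMap_apply k k' K']; exact Q.2.1 _, Q.2.2⟩

theorem toK_injective : Function.Injective (toK k (k' := k') (K' := K')) := by
  intro Q₁ Q₂ h
  have h1 : (toK k Q₁).1 = (toK k Q₂).1 := congrArg Subtype.val h
  exact Subtype.ext h1

theorem toK_surjective [Algebra.IsAlgebraic k k'] :
    Function.Surjective (toK k (k' := k') (K' := K')) := by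
  intro Q'
  refine ⟨⟨Q'.1, fun c => ?_, Q'.2.2⟩, rfl⟩
  by_cases hc : c = 0
  · rw [hc, map_zero, map_zero]
    exact zero_le_one
  · have halg : IsAlgebraic k (algebraMap k' K' c) :=
      (Algebra.IsAlgebraic.isAlgebraic c).algebraMap
    exact (G.val_eq_one_of_isAlgebraic Q' (by simpa using hc) halg).le

/-- The equivalence of places. -/
noncomputable def toKEquiv [Algebra.IsAlgebraic k k'] : Place k' K' ≃ Place k K' :=
  Equiv.ofBijective (toK k) ⟨toK_injective, toK_surjective⟩

theorem toKEquiv_apply [Algebra.IsAlgebraic k k'] (Q : Place k' K') :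
    toKEquiv (k := k) Q = toK k Q := rfl

theorem deg_toK (Q : Place k' K') :
    (toK k Q).deg = Module.finrank k k' * Q.deg := by
  letI a1 : Algebra k (IsLocalRing.ResidueField Q.O) := Place.algRes (toK k Q)
  letI a2 : Algebra k' (IsLocalRing.ResidueField Q.O) := Place.algRes Q
  have ht : IsScalarTower k k' (IsLocalRing.ResidueField Q.O) :=
    IsScalarTower.of_algebraMap_eq (fun c => by
      show IsLocalRing.residue Q.O (algebraMap k (toK k Q).O c) =
        IsLocalRing.residue Q.O (algebraMap k' Q.O (algebraMap k k' c))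
      congr 1
      apply Subtype.ext
      exact IsScalarTower.algebraMap_apply k k' K' c)
  have h := @Module.finrank_mul_finrank k k' (IsLocalRing.ResidueField Q.O) _ _ _ _ _ _ ht _ _
  unfold Place.deg
  exact h.symm

theorem riemann_hurwitz [FiniteDimensional k k'] [FiniteDimensional K K'] [Algebra.IsSeparable K K']
    (hK : IsFunctionField k K) (hg : IsGeometric k K) (hK' : IsFunctionField k' K')
    (F : Place k K → Type w) [∀ P, Field (F P)] [∀ P, Algebra k (F P)]
    (φ : ∀ P, K →ₐ[k] LaurentSeries (F P)) (hφ : ∀ P, LocRes.IsExpansionAt P.1 (φ P))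
    (F' : Place k' K' → Type w) [∀ Q, Field (F' Q)] [∀ Q, Algebra k' (F' Q)]
    (ψ : ∀ Q, K' →ₐ[k'] LaurentSeries (F' Q)) (hψ : ∀ Q, LocRes.IsExpansionAt Q.1 (ψ Q))
    (below : Place k' K' → Place k K) (e : Place k' K' → ℕ)
    (he : ∀ Q (z : K), Q.1 (algebraMap K K' z) = (below Q).1 z ^ e Q)
    (x : K) (hx : ∀ P, LocRes.vDiff (φ P) 1 x ≠ 0)
    (hx' : ∀ Q, LocRes.vDiff (ψ Q) 1 (algebraMap K K' x) ≠ 0) :
    (Function.support fun Q => LocRes.diffExp (φ (below Q)) (ψ Q) (e Q) x).Finite ∧
    (Module.finrank k k' : ℤ) * (2 * (genus k' K' : ℤ) - 2) =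
      (Module.finrank K K' : ℤ) * (2 * (genus k K : ℤ) - 2) +
      (Module.finrank k k' : ℤ) *
        ∑ᶠ Q, LocRes.diffExp (φ (below Q)) (ψ Q) (e Q) x * (Q.deg : ℤ) := by
  classical
  haveI : ∀ P, FiniteDimensional k (F P) := fun P =>
    Groth.Agent.H27.ExpFD.finiteDimensional hK P (φ P) (hφ P)
  haveI : ∀ Q, FiniteDimensional k' (F' Q) := fun Q =>
    Groth.Agent.H27.ExpFD.finiteDimensional hK' Q (ψ Q) (hψ Q)
  haveI : Algebra.IsAlgebraic k k' := Algebra.IsAlgebraic.of_finite k k'
  have hfr := finrank_kaehler hK hg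
  obtain ⟨P₁⟩ := exists_place hK
  have hdx : KaehlerDifferential.D k K x ≠ 0 :=
    Groth.Agent.H27.DiffExp.D_ne_zero_of_expansion (φ P₁) x (by
      intro h0
      apply hx P₁
      unfold LocRes.vDiff
      rw [h0, mul_zero, map_zero])
  obtain ⟨Q₁⟩ := exists_place hK'
  have hdx' : KaehlerDifferential.D k' K' (algebraMap K K' x) ≠ 0 :=
    Groth.Agent.H27.DiffExp.D_ne_zero_of_expansion (ψ Q₁) _ (by
      intro h0
      apply hx' Q₁
      unfold LocRes.vDiff
      rw [h0, mul_zero, map_zero])
  have hfr' : Module.finrank K' (Ω[K'⁄k']) = 1 := finrank_kaehler_ext (k := k) hfr hdx hdx'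
  obtain ⟨hne, -, C, hCo, hC⟩ :=
    Groth.Agent.H27.GenCanFr.main hK hfr φ hφ (one_ne_zero) hdx
  obtain ⟨hne', -, C', hCo', hC'⟩ :=
    Groth.Agent.H27.GenCanFr.main hK' hfr' ψ hψ (one_ne_zero) hdx'
  have hdegC : C.deg = 2 * (genus k K : ℤ) - 2 := (ell_canonical hK ⟨_, hne, hC⟩).2
  have hdegC' : C'.deg = 2 * (genus k' K' : ℤ) - 2 := (ell_canonical hK' ⟨_, hne', hC'⟩).2
  -- the conorm
  obtain ⟨N, hN⟩ : ∃ N : Divisor k K', N = conorm K' C := ⟨_, rfl⟩
  have hNdeg : N.deg = Module.finrank K K' * C.deg := by rw [hN]; exact deg_conorm hK C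
  have hNapp : ∀ Q : Place k' K', N (toK k Q) = (e Q : ℤ) * C (below Q) := by
    intro Q
    rw [hN]
    exact conorm_apply hK C (Q := toK k Q) (P := below Q) (e := e Q) (he Q)
  -- the three functions
  have hdiff : ∀ Q : Place k' K', LocRes.diffExp (φ (below Q)) (ψ Q) (e Q) x =
      C' Q - N (toK k Q) := by
    intro Q
    unfold LocRes.diffExp
    rw [hNapp, hCo', hCo]
  have hfinC' : (Function.support fun Q : Place k' K' => C' Q * (Q.deg : ℤ)).Finite := by
    refine C'.support.finite_toSet.subset fun Q hQ => ?_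
    rw [Finset.mem_coe, Finsupp.mem_support_iff]
    intro h0
    exact hQ (by show C' Q * (Q.deg : ℤ) = 0; rw [h0, zero_mul])
  have hfinN : (Function.support fun Q : Place k' K' => N (toK k Q) * ((toK k Q).deg : ℤ)).Finite := by
    have h1 : (toK k (k' := k') (K' := K')) ⁻¹' (N.support : Set (Place k K')) |>.Finite :=
      N.support.finite_toSet.preimage (Set.injOn_of_injective toK_injective)
    refine h1.subset fun Q hQ => ?_
    rw [Set.mem_preimage, Finset.mem_coe, Finsupp.mem_support_iff]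
    intro h0
    exact hQ (by show N (toK k Q) * ((toK k Q).deg : ℤ) = 0; rw [h0, zero_mul])
  have hsumC' : ∑ᶠ Q : Place k' K', C' Q * (Q.deg : ℤ) = C'.deg := by
    unfold Divisor.deg
    rw [Finsupp.sum]
    apply finsum_eq_sum_of_support_subset
    intro Q hQ
    rw [Finset.mem_coe, Finsupp.mem_support_iff]
    intro h0
    exact hQ (by show C' Q * (Q.deg : ℤ) = 0; rw [h0, zero_mul])
  have hsumN : ∑ᶠ Q : Place k' K', N (toK k Q) * ((toK k Q).deg : ℤ) = N.deg := by
    have h1 : ∑ᶠ Q : Place k' K', N (toK k Q) * ((toK k Q).deg : ℤ) =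
        ∑ᶠ Q' : Place k K', N Q' * (Q'.deg : ℤ) :=
      finsum_comp_equiv (toKEquiv (k := k) (k' := k') (K' := K'))
        (f := fun Q' : Place k K' => N Q' * (Q'.deg : ℤ))
    rw [h1]
    unfold Divisor.deg
    rw [Finsupp.sum]
    apply finsum_eq_sum_of_support_subset
    intro Q hQ
    rw [Finset.mem_coe, Finsupp.mem_support_iff]
    intro h0
    exact hQ (by show N Q * (Q.deg : ℤ) = 0; rw [h0, zero_mul])
  constructor
  · have hu := hfinC'.union hfinN
    refine hu.subset fun Q hQ => ?_
    by_contra hcon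
    rw [Set.mem_union, not_or] at hcon
    apply hQ
    have h1 : C' Q * (Q.deg : ℤ) = 0 := by
      by_contra h; exact hcon.1 h
    have h2 : N (toK k Q) * ((toK k Q).deg : ℤ) = 0 := by
      by_contra h; exact hcon.2 h
    have hdQ : (0 : ℤ) < (Q.deg : ℤ) := by exact_mod_cast deg_pos hK' Q
    have hdQ' : (0 : ℤ) < ((toK k Q).deg : ℤ) := by
      rw [deg_toK]
      have : 0 < Module.finrank k k' := Module.finrank_pos
      have h3 : 0 < Module.finrank k k' * Q.deg := Nat.mul_pos this (deg_pos hK' Q)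
      exact_mod_cast h3
    have h1' : C' Q = 0 := by
      rcases mul_eq_zero.1 h1 with h | h
      · exact h
      · omega
    have h2' : N (toK k Q) = 0 := by
      rcases mul_eq_zero.1 h2 with h | h
      · exact h
      · omega
    show LocRes.diffExp (φ (below Q)) (ψ Q) (e Q) x = 0
    rw [hdiff, h1', h2', sub_zero]
  · have hterm : ∀ Q : Place k' K',
        (Module.finrank k k' : ℤ) * (LocRes.diffExp (φ (below Q)) (ψ Q) (e Q) x * (Q.deg : ℤ)) =
          (Module.finrank k k' : ℤ) * (C' Q * (Q.deg : ℤ)) -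
            N (toK k Q) * ((toK k Q).deg : ℤ) := by
      intro Q
      rw [hdiff, deg_toK]
      push_cast
      ring
    have hfin3 : (Function.support fun Q : Place k' K' =>
        LocRes.diffExp (φ (below Q)) (ψ Q) (e Q) x * (Q.deg : ℤ)).Finite := by
      refine (hfinC'.union hfinN).subset fun Q hQ => ?_
      by_contra hcon
      rw [Set.mem_union, not_or] at hcon
      apply hQ
      have h1 : C' Q * (Q.deg : ℤ) = 0 := by
        by_contra h; exact hcon.1 h
      have h2 : N (toK k Q) * ((toK k Q).deg : ℤ) = 0 := by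
        by_contra h; exact hcon.2 h
      have h3 := hterm Q
      rw [h1, h2, mul_zero, sub_zero] at h3
      have hpos : (0 : ℤ) < (Module.finrank k k' : ℤ) := by
        exact_mod_cast (Module.finrank_pos : 0 < Module.finrank k k')
      rcases mul_eq_zero.1 h3 with h | h
      · omega
      · exact h
    rw [mul_finsum, finsum_congr hterm,
      finsum_sub_distrib (hfinC'.subset (fun Q hQ => by
        intro h0
        have h0' : C' Q * (Q.deg : ℤ) = 0 := h0
        exact hQ (by show (Module.finrank k k' : ℤ) * (C' Q * (Q.deg : ℤ)) = 0; rw [h0', mul_zero])))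
        hfinN,
      ← mul_finsum, hsumC', hsumN, hNdeg, hdegC, hdegC']
    ring

end Groth.Agent.H27.RH
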